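import Groth.Agent.Lib.CurveMult.GGCurve
import Groth.Agent.Lib.Ample.Generation

/-!
# Global generation of affine direct images
-/

set_option autoImplicit false
set_option linter.style.haveILetI false
set_option backward.isDefEq.respectTransparency false

universe u

open CategoryTheory CategoryTheory.Limits AlgebraicGeometry TopologicalSpace Opposite
open GrothLib.InvExt (mres)

noncomputable section

namespace GrothLib.GGPush9

/-- A pushout of rings is generated by the two factors. -/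
theorem closure_eq_top_of_isPushout {A B C P : CommRingCat.{u}} {f : A ⟶ B} {g : A ⟶ C} {i : B ⟶ P}
    {j : C ⟶ P} (h : IsPushout f g i j) : Subring.closure (Set.range i ∪ Set.range j) = ⊤ := by
  let R := Subring.closure (Set.range i ∪ Set.range j)
  let i' : B ⟶ CommRingCat.of R := CommRingCat.ofHom
    (i.hom.codRestrict R fun b => Subring.subset_closure (Or.inl ⟨b, rfl⟩))
  let j' : C ⟶ CommRingCat.of R := CommRingCat.ofHom
    (j.hom.codRestrict R fun b => Subring.subset_closure (Or.inr ⟨b, rfl⟩))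
  have w : f ≫ i' = g ≫ j' :=
    CommRingCat.hom_ext (RingHom.ext fun a => Subtype.ext (congrArg (fun k : A ⟶ P => k a) h.w))
  have key : h.desc i' j' w ≫ CommRingCat.ofHom R.subtype = 𝟙 P := by
    apply h.hom_ext
    · rw [h.inl_desc_assoc, Category.comp_id]; rfl
    · rw [h.inr_desc_assoc, Category.comp_id]; rfl
  rw [eq_top_iff]
  rintro a -
  have h2 : ((h.desc i' j' w a : R) : P) = a := congrArg (fun k : P ⟶ P => k a) key
  exact h2 ▸ (h.desc i' j' w a).2

variable {X : Scheme.{u}}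

/-- When a stable spanning set and the image of `φ` generate the scalars, sums `φ a • t` are everything. -/
theorem mem_closure_smul {A R M : Type u} [CommRing A] [CommRing R] [AddCommGroup M] [Module R M]
    (φ : A →+* R) {B : Set R} (hgen : Subring.closure (Set.range φ ∪ B) = ⊤) {T : Set M}
    (hB : ∀ b ∈ B, ∀ t ∈ T, b • t ∈ T) (hT : Submodule.span R T = ⊤) (m : M) :
    m ∈ AddSubgroup.closure {z | ∃ (a : A), ∃ t ∈ T, φ a • t = z} := by
  let G := AddSubgroup.closure {z | ∃ (a : A), ∃ t ∈ T, φ a • t = z}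
  have h : ∀ c : R, ∀ z ∈ G, c • z ∈ G := by
    intro c
    have hc : c ∈ Subring.closure (Set.range φ ∪ B) := hgen ▸ Subring.mem_top c
    induction hc using Subring.closure_induction with
    | mem b hb =>
      intro z hz
      induction hz using AddSubgroup.closure_induction with
      | mem z hz =>
        obtain ⟨a, t, ht, rfl⟩ := hz
        rcases hb with ⟨a', rfl⟩ | hb
        · exact AddSubgroup.subset_closure ⟨a' * a, t, ht, by rw [map_mul, mul_smul]⟩
        · exact AddSubgroup.subset_closure ⟨a, b • t, hB b hb t ht, smul_comm _ _ _⟩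
      | zero => rw [smul_zero]; exact G.zero_mem
      | add z w _ _ hz hw => rw [smul_add]; exact G.add_mem hz hw
      | neg z _ hz => rw [smul_neg]; exact G.neg_mem hz
    | zero => intro z hz; rw [zero_smul]; exact G.zero_mem
    | one => intro z hz; rw [one_smul]; exact hz
    | add a b _ _ ha hb => intro z hz; rw [add_smul]; exact G.add_mem (ha z hz) (hb z hz)
    | neg a _ ha => intro z hz; rw [neg_smul]; exact G.neg_mem (ha z hz)
    | mul a b _ _ ha hb => intro z hz; rw [mul_smul]; exact ha _ (hb z hz)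
  have hm : m ∈ Submodule.span R T := hT ▸ Submodule.mem_top
  induction hm using Submodule.span_induction with
  | mem t ht => exact AddSubgroup.subset_closure ⟨1, t, ht, by rw [map_one, one_smul]⟩
  | zero => exact G.zero_mem
  | add z w _ _ hz hw => exact G.add_mem hz hw
  | smul c z _ hz => exact h c z hz

/-- Spans in a restricted module are spans in the module. -/
theorem mem_span_of_restrict (M : X.Modules) (U : X.Opens) {W₀ : U.toScheme.Opens} {ι : Type*}
    (S : ι → Γ(M.restrict U.ι, W₀)) {m : Γ(M.restrict U.ι, W₀)} (h : m ∈ Submodule.span Γ(U, W₀) (Set.range S)) :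
    (show Γ(M, U.ι ''ᵁ W₀) from m) ∈ (Submodule.span Γ(X, U.ι ''ᵁ W₀)
      (Set.range fun i => (show Γ(M, U.ι ''ᵁ W₀) from S i)) : Set Γ(M, U.ι ''ᵁ W₀)) := by
  induction h using Submodule.span_induction with
  | mem z hz => exact Submodule.subset_span hz
  | zero => exact Submodule.zero_mem _
  | add z w _ _ hz hw => exact Submodule.add_mem _ hz hw
  | smul r z _ hz => exact Submodule.smul_mem _ ((U.ι.appIso W₀).inv r) hz

/-- On affine opens a globally generated quasi-coherent module is spanned by the sections over the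
ambient open. -/
theorem span_eq_top (M : X.Modules) [M.IsQuasicoherent] (U : X.Opens)
    (hg : Curv2.IsGloballyGenerated (M.restrict U.ι)) {W : X.Opens} (hW : IsAffineOpen W) (hWU : W ≤ U) :
    Submodule.span Γ(X, W) (Set.range fun t : Γ(M, U) => mres M hWU t) = ⊤ := by
  let N := Submodule.span Γ(X, W) (Set.range fun t : Γ(M, U) => mres M hWU t)
  obtain ⟨ι, s, hs⟩ := CurveMult.spanned_of_isGloballyGenerated hg
  refine eq_top_iff.2 fun m _ => ?_
  let I : Ideal Γ(X, W) := N.comap (LinearMap.toSpanSingleton Γ(X, W) Γ(M, W) m)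
  suffices I = ⊤ by
    have h1 : (1 : Γ(X, W)) ∈ I := this ▸ Submodule.mem_top
    simpa [I] using h1
  rw [← Ideal.span_eq I, ← hW.self_le_iSup_basicOpen_iff]
  intro x hx
  obtain ⟨W₀, hW₀, hxW₀, hmem⟩ := hs (U.ι ⁻¹ᵁ W)
    (mres M (by rintro _ ⟨y, hy, rfl⟩; exact hy : U.ι ''ᵁ (U.ι ⁻¹ᵁ W) ≤ W) m) ⟨x, hWU hx⟩ hx
  obtain ⟨r, hrW₀, hxr⟩ := hW.exists_basicOpen_le (V := U.ι ''ᵁ W₀)
    ⟨x, ⟨⟨x, hWU hx⟩, hxW₀, rfl⟩⟩ hx
  have hrle := X.basicOpen_le r
  have hW₀W : U.ι ''ᵁ W₀ ≤ W := by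
    rintro _ ⟨y, hy, rfl⟩
    exact hW₀ hy
  have hmem' : mres M hW₀W m ∈ Submodule.span Γ(X, U.ι ''ᵁ W₀)
      (Set.range fun i => (show Γ(M, U.ι ''ᵁ W₀) from
        mres (M.restrict U.ι) (le_top : W₀ ≤ ⊤) (s i))) := by
    rw [← InvExt.mres_mres M (show U.ι ''ᵁ (U.ι ⁻¹ᵁ W) ≤ W by rintro _ ⟨y, hy, rfl⟩; exact hy)
      (U.ι.image_mono hW₀) m]
    exact mem_span_of_restrict M U _ hmem
  have h1 : mres M hrle m ∈ Submodule.span Γ(X, X.basicOpen r)
      (Set.range fun t : Γ(M, U) => mres M (hrle.trans hWU) t) := by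
    have h2 := Ample.mres_mem_span_image (F := M) hrW₀ hmem'
    rw [InvExt.mres_mres] at h2
    refine Submodule.span_mono ?_ h2
    rintro _ ⟨_, ⟨i, rfl⟩, rfl⟩
    refine ⟨mres M U.ι_image_top.ge (s i), ?_⟩
    exact (InvExt.mres_mres M _ _ _).trans (InvExt.mres_mres M (U.ι.image_mono le_top) hrW₀ (s i)).symm
  haveI := hW.isLocalization_basicOpen r
  have key : ∀ y : Γ(M, X.basicOpen r),
      y ∈ Submodule.span Γ(X, X.basicOpen r) (Set.range fun t : Γ(M, U) => mres M (hrle.trans hWU) t) →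
      ∃ (k : ℕ) (n : Γ(M, W)), n ∈ N ∧ InvExt.fres X hrle r ^ k • y = mres M hrle n := by
    intro y hy
    induction hy using Submodule.span_induction with
    | mem z hz =>
      obtain ⟨t, rfl⟩ := hz
      exact ⟨0, mres M hWU t, Submodule.subset_span ⟨t, rfl⟩, by
        rw [pow_zero, one_smul, InvExt.mres_mres]⟩
    | zero => exact ⟨0, 0, zero_mem N, by rw [smul_zero, show mres M hrle 0 = 0 from map_zero _]⟩
    | add z w _ _ hz hw =>
      obtain ⟨k, n, hn, hk⟩ := hz
      obtain ⟨k', n', hn', hk'⟩ := hw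
      refine ⟨k + k', r ^ k' • n + r ^ k • n', add_mem (N.smul_mem _ hn) (N.smul_mem _ hn'), ?_⟩
      rw [show mres M hrle (r ^ k' • n + r ^ k • n') = mres M hrle (r ^ k' • n) + mres M hrle (r ^ k • n')
          from map_add _ _ _, InvExt.mres_smul, InvExt.mres_smul, ← hk, ← hk',
        show InvExt.fres X hrle (r ^ k') = InvExt.fres X hrle r ^ k' from map_pow _ _ _,
        show InvExt.fres X hrle (r ^ k) = InvExt.fres X hrle r ^ k from map_pow _ _ _, smul_smul,
        smul_smul, smul_add, ← pow_add, ← pow_add, add_comm k' k]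
    | smul c z _ hz =>
      obtain ⟨k, n, hn, hk⟩ := hz
      obtain ⟨⟨a, ⟨_, j, rfl⟩⟩, hc⟩ := IsLocalization.surj (Submonoid.powers r) c
      refine ⟨k + j, a • n, N.smul_mem _ hn, ?_⟩
      rw [InvExt.mres_smul, ← hk, smul_smul, smul_smul]
      congr 1
      have hc' : c * InvExt.fres X hrle (r ^ j) = InvExt.fres X hrle a := hc
      rw [← hc', show InvExt.fres X hrle (r ^ j) = InvExt.fres X hrle r ^ j from map_pow _ _ _, pow_add]
      ring
  obtain ⟨k, n, hn, hk⟩ := key _ h1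
  obtain ⟨j, hj⟩ := (QCoh.smulLift_and_smulSep_of_isAffineOpen hW M r).2 (r ^ k • m - n) (by
    show mres M hrle (r ^ k • m - n) = 0
    rw [show mres M hrle (r ^ k • m - n) = mres M hrle (r ^ k • m) - mres M hrle n from map_sub _ _ _,
      InvExt.mres_smul, ← hk, show InvExt.fres X hrle (r ^ k) = InvExt.fres X hrle r ^ k from map_pow _ _ _,
      sub_self])
  have hI : r ^ (j + k) ∈ I := by
    show r ^ (j + k) • m ∈ N
    rw [pow_add, mul_smul]
    rw [smul_sub, sub_eq_zero] at hj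
    rw [hj]
    exact N.smul_mem _ hn
  refine Opens.mem_iSup.2 ⟨⟨r ^ (j + k), hI⟩, ?_⟩
  show x ∈ X.basicOpen (r ^ (j + k))
  rw [Scheme.mem_basicOpen _ _ x hx, map_pow]
  exact ((Scheme.mem_basicOpen _ _ x hx).1 hxr).pow _

/-- Spans in the module are spans in a restricted module. -/
theorem mem_span_restrict (M : X.Modules) (U : X.Opens) {W₀ : U.toScheme.Opens} {ι : Type*}
    (S : ι → Γ(M, U.ι ''ᵁ W₀)) {m : Γ(M, U.ι ''ᵁ W₀)} (h : m ∈ Submodule.span Γ(X, U.ι ''ᵁ W₀) (Set.range S)) :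
    (show Γ(M.restrict U.ι, W₀) from m) ∈ (Submodule.span Γ(U, W₀)
      (Set.range fun i => (show Γ(M.restrict U.ι, W₀) from S i)) : Set Γ(M.restrict U.ι, W₀)) := by
  induction h using Submodule.span_induction with
  | mem z hz => exact Submodule.subset_span hz
  | zero => exact Submodule.zero_mem _
  | add z w _ _ hz hw => exact Submodule.add_mem _ hz hw
  | smul r z _ hz =>
    have h := Submodule.smul_mem _ ((U.ι.appIso W₀).hom r) hz
    have e : (U.ι.appIso W₀).hom r • (show Γ(M.restrict U.ι, W₀) from z) =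
        (show Γ(M.restrict U.ι, W₀) from r • z) :=
      congrArg (fun c : Γ(X, U.ι ''ᵁ W₀) => c • (z : Γ(M, U.ι ''ᵁ W₀)))
        (ConcreteCategory.congr_hom (U.ι.appIso W₀).hom_inv_id r)
    exact e ▸ h

/-- A module spanned by its sections over `U` on the affine opens in `U` is globally generated on `U`. -/
theorem isGloballyGenerated_restrict_of_span (M : X.Modules) (U : X.Opens)
    (h : ∀ (W : X.Opens) (hWU : W ≤ U), IsAffineOpen W →
      Submodule.span Γ(X, W) (Set.range fun t : Γ(M, U) => mres M hWU t) = ⊤) :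
    Curv2.IsGloballyGenerated (M.restrict U.ι) := by
  refine Ample.isGloballyGenerated_of_local _ fun O m x hx => ?_
  obtain ⟨_, ⟨W, hW : IsAffineOpen W, rfl⟩, hxW, hWO⟩ := X.isBasis_affineOpens.exists_subset_of_mem_open
    (show x.1 ∈ U.ι ''ᵁ O from ⟨x, hx, rfl⟩) (U.ι ''ᵁ O).2
  have hWU : W ≤ U := fun y hy => by
    obtain ⟨y', -, rfl⟩ := hWO hy
    exact y'.2
  have hW₀ : U.ι ⁻¹ᵁ W ≤ O := fun y hy => by
    obtain ⟨y', hy', he⟩ := hWO hy
    exact Subtype.ext he ▸ hy'
  have himg : U.ι ''ᵁ (U.ι ⁻¹ᵁ W) ≤ W := by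
    rintro _ ⟨y, hy, rfl⟩
    exact hy
  refine ⟨U.ι ⁻¹ᵁ W, hW₀, hxW, ?_⟩
  let m' : Γ(M, U.ι ''ᵁ O) := m
  let S : Γ(M, U) → Γ(M, U.ι ''ᵁ (U.ι ⁻¹ᵁ W)) := fun t => mres M (himg.trans hWU) t
  have h1 : mres M (U.ι.image_mono hW₀) m' ∈ Submodule.span Γ(X, U.ι ''ᵁ (U.ι ⁻¹ᵁ W)) (Set.range S) := by
    have h2 := Ample.mres_mem_span_image (F := M) himg
      ((h W hWU hW).symm ▸ Submodule.mem_top (x := mres M hWO m'))
    rw [InvExt.mres_mres] at h2
    refine Submodule.span_mono ?_ h2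
    rintro _ ⟨_, ⟨t, rfl⟩, rfl⟩
    exact ⟨t, (InvExt.mres_mres M _ _ t).symm⟩
  refine Submodule.span_mono ?_ (mem_span_restrict M U S h1)
  rintro _ ⟨t, rfl⟩
  exact ⟨mres M U.ι_image_top.le t,
    InvExt.mres_mres M U.ι_image_top.le (U.ι.image_mono (le_top : U.ι ⁻¹ᵁ W ≤ ⊤)) t⟩

variable {X' Y Y' : Scheme.{u}}

/-- An affine base change sends globally generated modules to modules with globally generated
direct image, over affine opens of the base. -/
theorem isGloballyGenerated_push_restrict {f : X ⟶ Y} {g : Y' ⟶ Y} {g' : X' ⟶ X} {f' : X' ⟶ Y'}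
    [IsAffineHom g] [IsAffineHom g'] (hsq : IsPullback g' f' f g) (H : X'.Modules) [H.IsQuasicoherent]
    {V : Y.Opens} (hV : IsAffineOpen V)
    (hg : Curv2.IsGloballyGenerated (H.restrict (f' ⁻¹ᵁ (g ⁻¹ᵁ V)).ι)) :
    Curv2.IsGloballyGenerated (((Scheme.Modules.pushforward g').obj H).restrict (f ⁻¹ᵁ V).ι) := by
  let F := (Scheme.Modules.pushforward g').obj H
  have hpre : g' ⁻¹ᵁ (f ⁻¹ᵁ V) = f' ⁻¹ᵁ (g ⁻¹ᵁ V) := by
    rw [← Scheme.Hom.comp_preimage, hsq.w, Scheme.Hom.comp_preimage]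
  refine isGloballyGenerated_restrict_of_span F (f ⁻¹ᵁ V) fun W hWU hW => ?_
  have hW' : g' ⁻¹ᵁ W ≤ f' ⁻¹ᵁ (g ⁻¹ᵁ V) := (g'.preimage_mono hWU).trans hpre.le
  have hinf : g' ⁻¹ᵁ W = g' ⁻¹ᵁ W ⊓ f' ⁻¹ᵁ (g ⁻¹ᵁ V) := (inf_eq_left.2 hW').symm
  have hpo := (isIso_pushoutSection_iff hsq (le_refl (g ⁻¹ᵁ V)) hWU hinf).1
    (isIso_pushoutSection_of_isAffineOpen hsq (le_refl (g ⁻¹ᵁ V)) hWU hinf hV (hV.preimage g) hW)
  let T : Set Γ(F, W) := Set.range fun t : Γ(H, f' ⁻¹ᵁ (g ⁻¹ᵁ V)) => mres H hW' t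
  let N := Submodule.span Γ(X, W) T
  have hgen := closure_eq_top_of_isPushout hpo
  rw [← Scheme.Hom.app_eq_appLE] at hgen
  have htop : ∀ z : Γ(F, W), z ∈ N := fun z => by
    have hz : (show Γ(H, g' ⁻¹ᵁ W) from z) ∈ AddSubgroup.closure _ :=
      mem_closure_smul (g'.app W).hom (T := Set.range fun t : Γ(H, f' ⁻¹ᵁ (g ⁻¹ᵁ V)) => mres H hW' t)
        hgen (by
          rintro _ ⟨c, rfl⟩ _ ⟨t, rfl⟩
          refine ⟨(f'.appLE (g ⁻¹ᵁ V) (f' ⁻¹ᵁ (g ⁻¹ᵁ V)) le_rfl c) • t, ?_⟩
          show mres H hW' _ = _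
          rw [InvExt.mres_smul]
          congr 1
          exact ConcreteCategory.congr_hom (f'.appLE_map le_rfl (homOfLE hW').op) c)
        (span_eq_top H _ hg (hW.preimage g') hW') z
    refine (AddSubgroup.closure_le (K := N.toAddSubgroup)).2 ?_ hz
    rintro _ ⟨a, t, ht, rfl⟩
    exact N.smul_mem a (Submodule.subset_span ht)
  refine eq_top_iff.2 fun z _ => Submodule.span_mono ?_ (htop z)
  rintro _ ⟨t, rfl⟩
  exact ⟨mres H hpre.le t, InvExt.mres_mres H hpre.le (g'.preimage_mono hWU) t⟩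

end GrothLib.GGPush9
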